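import Groth.Agent.Proj16.Points
import Groth.Prelude.Def_W4c2ratsingkovacsGH
import Mathlib.RingTheory.Ideal.KrullsHeightTheorem
import Mathlib.RingTheory.Regular.RegularSequence

/-!
# The height of a homogeneous ideal on a standard chart, and sequences of uniform geometric height
-/

set_option autoImplicit false
set_option linter.unusedSectionVars false
set_option backward.isDefEq.respectTransparency.types false

universe u v

open SetLike DirectSum AlgebraicGeometry HomogeneousLocalization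

namespace Groth.Agent.GeomHt22

variable {R : Type u} {A : Type v} [CommRing R] [CommRing A] [Algebra R A]
  (𝒜 : ℕ → Submodule R A) [GradedRing 𝒜]

open W4c2ratsingkovacs

/-- Homogeneous prime avoidance inside an ideal, in positive degree. -/
theorem exists_mem_notMem (J : Ideal A) (S : Finset (Ideal A))
    (hS : ∀ P ∈ S, P.IsPrime ∧ P.IsHomogeneous 𝒜 ∧ ∃ d, 0 < d ∧ ∃ h ∈ 𝒜 d, h ∈ J ∧ h ∉ P) :
    ∃ e : ℕ, 0 < e ∧ ∃ x ∈ 𝒜 e, x ∈ J ∧ ∀ P ∈ S, x ∉ P := by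
  classical
  suffices ∀ T ⊆ S, ∃ e : ℕ, 0 < e ∧ ∃ x ∈ 𝒜 e, x ∈ J ∧ ∀ P ∈ T, x ∉ P from this S subset_rfl
  intro T
  induction T using Finset.strongInduction with
  | H T ih =>
    intro hTS
    rcases T.eq_empty_or_nonempty with rfl | hne
    · exact ⟨1, one_pos, 0, zero_mem _, zero_mem _, by simp⟩
    obtain ⟨P, hPT, hmin⟩ := T.exists_minimal hne
    obtain ⟨hPp, -, eh, heh, h, hh, hhJ, hhP⟩ := hS P (hTS hPT)
    obtain ⟨ef, hef, f, hf, hfJ, hfav⟩ :=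
      ih (T.erase P) (Finset.erase_ssubset hPT) ((Finset.erase_subset _ _).trans hTS)
    by_cases hfP : f ∈ P
    swap
    · refine ⟨ef, hef, f, hf, hfJ, fun Q hQ => ?_⟩
      rcases eq_or_ne Q P with rfl | hQP
      exacts [hfP, hfav Q (Finset.mem_erase.2 ⟨hQP, hQ⟩)]
    have hg0 : ∀ U ⊆ T.erase P, ∃ e : ℕ, ∃ g ∈ 𝒜 e, g ∉ P ∧ ∀ Q ∈ U, g ∈ Q := by
      intro U
      induction U using Finset.induction_on with
      | empty =>
        exact fun _ => ⟨0, 1, SetLike.one_mem_graded 𝒜,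
          fun h => hPp.ne_top ((Ideal.eq_top_iff_one P).2 h), by simp⟩
      | @insert Q U _ ihU =>
        intro hU
        obtain ⟨e, g, hg, hgP, hgU⟩ := ihU ((Finset.subset_insert _ _).trans hU)
        obtain ⟨hQP, hQT⟩ := Finset.mem_erase.1 (hU (Finset.mem_insert_self Q U))
        have hnle : ¬ Q ≤ P := fun h => hQP (le_antisymm h (hmin hQT h))
        obtain ⟨r, hrQ, hrP⟩ := SetLike.not_le_iff_exists.1 hnle
        obtain ⟨i, hi⟩ : ∃ i, (decompose 𝒜 r i : A) ∉ P := by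
          by_contra hc
          push Not at hc
          exact hrP (sum_support_decompose 𝒜 r ▸ Ideal.sum_mem _ fun i _ => hc i)
        refine ⟨e + i, g * (decompose 𝒜 r i : A), SetLike.mul_mem_graded hg (SetLike.coe_mem _),
          fun h => (hPp.mem_or_mem h).elim hgP hi, fun Q' hQ' => ?_⟩
        rcases Finset.mem_insert.1 hQ' with rfl | hQ'
        · exact Ideal.mul_mem_left _ _ ((hS Q' (hTS hQT)).2.1 i hrQ)
        · exact Ideal.mul_mem_right _ _ (hgU Q' hQ')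
    obtain ⟨e0, g0, hg0', hg0P, hg0Q⟩ := hg0 _ subset_rfl
    refine ⟨(e0 + eh) * ef, Nat.mul_pos (by omega) hef, f ^ (e0 + eh) + (g0 * h) ^ ef,
      add_mem (SetLike.pow_mem_graded (e0 + eh) hf) ?_, add_mem (Ideal.pow_mem_of_mem _ hfJ _ (by omega))
        (Ideal.pow_mem_of_mem _ (Ideal.mul_mem_left _ _ hhJ) _ hef), fun Q hQ hmem => ?_⟩
    · rw [show (e0 + eh) * ef = ef • (e0 + eh) by rw [smul_eq_mul, mul_comm]]
      exact SetLike.pow_mem_graded ef (SetLike.mul_mem_graded hg0' hh)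
    · rcases eq_or_ne Q P with rfl | hQP
      · have hf' : f ^ (e0 + eh) ∈ Q := Ideal.pow_mem_of_mem _ hfP _ (by omega)
        exact (hPp.mem_or_mem (hPp.mem_of_pow_mem _ ((Ideal.add_mem_iff_right _ hf').1 hmem))).elim
          hg0P hhP
      · have hQ' := Finset.mem_erase.2 ⟨hQP, hQ⟩
        have hg' : (g0 * h) ^ ef ∈ Q :=
          Ideal.pow_mem_of_mem _ (Ideal.mul_mem_right _ _ (hg0Q Q hQ')) _ hef
        exact hfav Q hQ' ((hS Q (hTS hQ)).1.mem_of_pow_mem _ ((Ideal.add_mem_iff_left _ hg').1 hmem))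

variable {f : A} {n : ℕ}

theorem locIdeal_mono {I I' : Ideal A} (h : I ≤ I') : locIdeal 𝒜 I f ≤ locIdeal 𝒜 I' f :=
  Ideal.comap_mono (Ideal.map_mono h)

/-- The fraction `z ^ n / f ^ d`. -/
noncomputable def w (hf : f ∈ 𝒜 n) {z : A} {d : ℕ} (hz : z ∈ 𝒜 d) : Away 𝒜 f :=
  Away.mk 𝒜 hf d (z ^ n) (by rw [smul_eq_mul, mul_comm, ← smul_eq_mul]; exact SetLike.pow_mem_graded n hz)

/-- Every prime of the chart comes from a relevant homogeneous prime. -/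
theorem exists_point (hn : 0 < n) (hf : f ∈ 𝒜 n) (p : Ideal (Away 𝒜 f)) [hp : p.IsPrime] :
    ∃ x : ProjectiveSpectrum 𝒜, f ∉ x.asHomogeneousIdeal ∧ locIdeal 𝒜 x.asHomogeneousIdeal.toIdeal f = p := by
  let x := ProjIsoSpecTopComponent.FromSpec.toFun (𝒜 := 𝒜) hf hn ⟨p, hp⟩
  exact ⟨x.1, x.2, congrArg PrimeSpectrum.asIdeal (ProjIsoSpecTopComponent.toSpec_fromSpec 𝒜 hf hn ⟨p, hp⟩)⟩

theorem isPrime_locIdeal (x : ProjectiveSpectrum 𝒜) (hx : f ∉ x.asHomogeneousIdeal) :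
    (locIdeal 𝒜 x.asHomogeneousIdeal.toIdeal f).IsPrime :=
  ProjIsoSpecTopComponent.ToSpec.isPrime_carrier (𝒜 := 𝒜) (f := f) ⟨x, hx⟩

theorem w_mem_iff (hn : 0 < n) (hf : f ∈ 𝒜 n) {z : A} {d : ℕ} (hz : z ∈ 𝒜 d) (x : ProjectiveSpectrum 𝒜)
    (hx : f ∉ x.asHomogeneousIdeal) :
    w 𝒜 hf hz ∈ locIdeal 𝒜 x.asHomogeneousIdeal.toIdeal f ↔ z ∈ x.asHomogeneousIdeal := by
  haveI := x.isPrime
  refine (ProjIsoSpecTopComponent.ToSpec.mk_mem_carrier (𝒜 := 𝒜) (f := f) ⟨x, hx⟩ _).trans ?_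
  exact x.isPrime.pow_mem_iff_mem n hn

/-- The hypotheses on a finite set of generators. -/
def Good (J : Ideal A) (s : Finset A) : Prop := ∀ z ∈ s, (∃ d, 0 < d ∧ z ∈ 𝒜 d) ∧ z ∈ J

theorem isHomogeneous_span {J : Ideal A} {s : Finset A} (hs : Good 𝒜 J s) :
    (Ideal.span (s : Set A)).IsHomogeneous 𝒜 :=
  Proj16.isHomogeneous_span_of_pos 𝒜 fun e he => (hs e he).1

/-- The upper bound. -/
theorem height_le [IsNoetherianRing A] (hn : 0 < n) (hf : f ∈ 𝒜 n) {J : Ideal A} (hJ : J.IsHomogeneous 𝒜)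
    (hfJ : f ∉ J.radical) {s : Finset A} (hs : Good 𝒜 J s) :
    geomHeight 𝒜 (Ideal.span (s : Set A)) f ≤ s.card := by
  classical
  haveI := Proj16.isNoetherianRing_away 𝒜 f hf
  choose! d hd using fun z (hz : z ∈ s) => (hs z hz).1
  let W : Finset (Away 𝒜 f) := s.attach.image fun z => w 𝒜 hf (hd z.1 z.2).2
  obtain ⟨y, hJy, hfy⟩ := Proj16.exists_point 𝒜 hJ hn hf hfJ
  haveI := isPrime_locIdeal 𝒜 y hfy
  have hWy : Ideal.span (W : Set (Away 𝒜 f)) ≤ locIdeal 𝒜 y.asHomogeneousIdeal.toIdeal f := by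
    rw [Ideal.span_le]
    intro v hv
    obtain ⟨z, -, rfl⟩ := Finset.mem_image.1 hv
    exact (w_mem_iff 𝒜 hn hf _ y hfy).2 (hJy (hs z.1 z.2).2)
  obtain ⟨p, hp, -⟩ := Ideal.exists_minimalPrimes_le hWy
  haveI := hp.1.1
  refine le_trans ?_ ((Ideal.height_le_card_of_mem_minimalPrimes_span_finset hp).trans
    (by exact_mod_cast (Finset.card_image_le.trans_eq s.card_attach)))
  refine Ideal.height_mono ?_
  obtain ⟨x, hfx, hx⟩ := exists_point 𝒜 hn hf p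
  rw [← hx]
  refine locIdeal_mono 𝒜 (Ideal.span_le.2 fun z hz => ?_)
  refine (w_mem_iff 𝒜 hn hf (hd z hz).2 x hfx).1 (hx.symm ▸ hp.1.2 (Ideal.subset_span ?_))
  exact Finset.mem_image.2 ⟨⟨z, hz⟩, Finset.mem_attach _ _, rfl⟩

/-- The lower bound after adding one element in general position. -/
theorem succ_le_height [IsNoetherianRing A] (hn : 0 < n) (hf : f ∈ 𝒜 n) {J I I' : Ideal A}
    (hI : I.IsHomogeneous 𝒜) (hII' : I ≤ I') {z : A} {d : ℕ} (hz : z ∈ 𝒜 d) (hzI : z ∈ I')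
    {j h : ℕ} (hjh : j < h) (hJh : HasUniformGeomHeight 𝒜 J h)
    (hj : (j : ℕ∞) ≤ geomHeight 𝒜 I f)
    (havoid : ∀ p ∈ I.minimalPrimes, ¬ J ≤ p → ∀ x : ProjectiveSpectrum 𝒜,
      p = x.asHomogeneousIdeal.toIdeal → z ∉ p) :
    ((j + 1 : ℕ) : ℕ∞) ≤ geomHeight 𝒜 I' f := by
  haveI := Proj16.isNoetherianRing_away 𝒜 f hf
  rw [geomHeight, Ideal.height_eq_inf_minimalPrimes]
  refine le_iInf₂ fun p hp => ?_
  haveI := hp.1.1
  obtain ⟨p₀, hp₀, hp₀p⟩ := Ideal.exists_minimalPrimes_le ((locIdeal_mono 𝒜 hII').trans hp.1.2)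
  haveI := hp₀.1.1
  obtain ⟨x, hfx, hx⟩ := exists_point 𝒜 hn hf p
  obtain ⟨x₀, hfx₀, hx₀⟩ := exists_point 𝒜 hn hf p₀
  have hIx₀ : I ≤ x₀.asHomogeneousIdeal.toIdeal := by
    classical
    refine fun a ha => ?_
    rw [← sum_support_decompose 𝒜 a]
    refine Ideal.sum_mem _ fun i _ => (w_mem_iff 𝒜 hn hf (SetLike.coe_mem _) x₀ hfx₀).1 ?_
    rw [hx₀]
    refine hp₀.1.2 ?_
    rw [locIdeal, Ideal.mem_comap, HomogeneousLocalization.algebraMap_apply, w, Away.val_mk,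
      Localization.mk_eq_mk', IsLocalization.mk'_mem_map_algebraMap_iff]
    exact ⟨1, one_mem _, by rw [one_mul]; exact Ideal.pow_mem_of_mem _ (hI i ha) n hn⟩
  haveI := x₀.isPrime
  obtain ⟨q, hq, hqx₀⟩ := Ideal.exists_minimalPrimes_le hIx₀
  have hqc : (q.homogeneousCore 𝒜).toIdeal = q := by
    refine le_antisymm (Ideal.toIdeal_homogeneousCore_le 𝒜 q) (hq.2 ⟨hq.1.1.homogeneousCore, ?_⟩
      (Ideal.toIdeal_homogeneousCore_le 𝒜 q))
    exact hI.toIdeal_homogeneousCore_eq_self.symm.trans_le (Ideal.homogeneousCore_mono 𝒜 hq.1.2)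
  let x₁ : ProjectiveSpectrum 𝒜 := ⟨q.homogeneousCore 𝒜, hq.1.1.homogeneousCore, fun hirr =>
    x₀.not_irrelevant_le fun a ha => hqx₀ (hqc.le (hirr ha))⟩
  have hfx₁ : f ∉ x₁.asHomogeneousIdeal := fun hf' => hfx₀ (hqx₀ (hqc.le hf'))
  haveI := isPrime_locIdeal 𝒜 x₁ hfx₁
  have hx₁ : locIdeal 𝒜 x₁.asHomogeneousIdeal.toIdeal f = p₀ := by
    have hle : locIdeal 𝒜 x₁.asHomogeneousIdeal.toIdeal f ≤ p₀ := hx₀ ▸ locIdeal_mono 𝒜 (hqc.le.trans hqx₀)
    exact le_antisymm hle (hp₀.2 ⟨inferInstance, locIdeal_mono 𝒜 (hq.1.2.trans hqc.ge)⟩ hle)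
  by_cases hJq : J ≤ q
  · have hfJ : f ∉ J.radical := fun hf' => hfx₁ (hqc.ge (hq.1.1.radical_le_iff.2 hJq hf'))
    calc ((j + 1 : ℕ) : ℕ∞) ≤ (h : ℕ∞) := by exact_mod_cast hjh
      _ = geomHeight 𝒜 J f := (hJh f n hn hf hfJ).symm
      _ ≤ p.height := Ideal.height_mono (le_trans (hx₁ ▸ locIdeal_mono 𝒜 (hJq.trans hqc.ge)) hp₀p)
  · have hwp : w 𝒜 hf hz ∈ p := by
      refine hp.1.2 ?_
      rw [locIdeal, Ideal.mem_comap, HomogeneousLocalization.algebraMap_apply, w, Away.val_mk,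
        Localization.mk_eq_mk', IsLocalization.mk'_mem_map_algebraMap_iff]
      exact ⟨1, one_mem _, by rw [one_mul]; exact Ideal.pow_mem_of_mem _ hzI n hn⟩
    have hwp₀ : w 𝒜 hf hz ∉ p₀ := fun hw => havoid q hq hJq x₁ hqc.symm
      (hqc.le ((w_mem_iff 𝒜 hn hf hz x₁ hfx₁).1 (hx₁.symm ▸ hw)))
    have hlt : p₀ < p := lt_of_le_of_ne hp₀p fun e => hwp₀ (e ▸ hwp)
    calc ((j + 1 : ℕ) : ℕ∞) = (j : ℕ∞) + 1 := by norm_cast
      _ ≤ p₀.height + 1 := add_le_add (hj.trans (Ideal.height_mono hp₀.1.2)) le_rfl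
      _ ≤ p.height := Order.add_one_le_of_lt (Ideal.height_strict_mono_of_isPrime_of_isPrime hlt)

theorem exists_seq [IsNoetherianRing A] (J : Ideal A) (hJ : J.IsHomogeneous 𝒜) (h : ℕ)
    (hJh : HasUniformGeomHeight 𝒜 J h) (P : Finset (Ideal A))
    (hP : ∀ q ∈ P, q.IsPrime ∧ ¬ J ≤ q ∧ ¬ (HomogeneousIdeal.irrelevant 𝒜).toIdeal ≤ q) :
    ∀ j ≤ h, ∃ zs : List A, zs.length = j ∧
      (∀ z ∈ zs, (∃ n : ℕ, 0 < n ∧ z ∈ 𝒜 n) ∧ z ∈ J ∧ ∀ q ∈ P, z ∉ q) ∧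
      ∀ (f : A) (n : ℕ), 0 < n → f ∈ 𝒜 n →
        ∀ i ≤ j, (i : ℕ∞) ≤ geomHeight 𝒜 (Ideal.ofList (zs.take i)) f := by
  classical
  intro j
  induction j with
  | zero => exact fun _ => ⟨[], rfl, by simp, fun f n _ _ i hi => by simp [Nat.le_zero.1 hi]⟩
  | succ j ih =>
    intro hj
    obtain ⟨zs, hlen, hzs, hht⟩ := ih (by omega)
    let I : Ideal A := Ideal.ofList zs
    have hI : I.IsHomogeneous 𝒜 :=
      Proj16.isHomogeneous_span_of_pos 𝒜 fun z hz => (hzs z hz).1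
    let T : Finset (Ideal A) := ((P ∪ (I.finite_minimalPrimes_of_isNoetherianRing A).toFinset).image
      fun p => (p.homogeneousCore 𝒜).toIdeal).filter fun q => q.IsPrime ∧ ¬ J ≤ q ∧
        ¬ (HomogeneousIdeal.irrelevant 𝒜).toIdeal ≤ q
    have hT : ∀ q ∈ T, q.IsPrime ∧ q.IsHomogeneous 𝒜 ∧ ∃ d, 0 < d ∧ ∃ a ∈ 𝒜 d, a ∈ J ∧ a ∉ q := by
      intro q hq
      obtain ⟨hq', hqp, hJq, hirr⟩ := Finset.mem_filter.1 hq
      obtain ⟨p, -, rfl⟩ := Finset.mem_image.1 hq'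
      refine ⟨hqp, (p.homogeneousCore 𝒜).isHomogeneous, ?_⟩
      obtain ⟨a, haJ, haq⟩ := SetLike.not_le_iff_exists.1 hJq
      obtain ⟨i, hi⟩ : ∃ i, (decompose 𝒜 a i : A) ∉ (p.homogeneousCore 𝒜).toIdeal := by
        by_contra hc
        push Not at hc
        exact haq (sum_support_decompose 𝒜 a ▸ Ideal.sum_mem _ fun i _ => hc i)
      obtain ⟨e, b, he, hb, hbq⟩ : ∃ (e : ℕ) (b : A), 0 < e ∧ b ∈ 𝒜 e ∧ b ∉ (p.homogeneousCore 𝒜).toIdeal := by
        by_contra! H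
        refine hirr ?_
        rw [HomogeneousIdeal.irrelevant_eq_span, Ideal.span_le]
        simp only [Set.iUnion_subset_iff]
        exact fun i hi a ha => H i a hi ha
      exact ⟨i + e, by omega, _, SetLike.mul_mem_graded (SetLike.coe_mem _) hb,
        Ideal.mul_mem_right _ _ (hJ i haJ), fun hm => (hqp.mem_or_mem hm).elim hi hbq⟩
    obtain ⟨e, he, z, hz, hzJ, hzT⟩ := exists_mem_notMem 𝒜 J T hT
    refine ⟨zs ++ [z], by simp [hlen], ?_, fun f n hn hf i hi => ?_⟩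
    · intro y hy
      rcases List.mem_append.1 hy with hy | hy
      · exact hzs y hy
      · rw [List.mem_singleton] at hy
        subst hy
        refine ⟨⟨e, he, hz⟩, hzJ, fun q hq hzq => ?_⟩
        obtain ⟨hqp, hJq, hirr⟩ := hP q hq
        refine hzT _ (Finset.mem_filter.2 ⟨Finset.mem_image.2 ⟨q, Finset.mem_union_left _ hq, rfl⟩,
          hqp.homogeneousCore, fun h' => hJq (h'.trans (Ideal.toIdeal_homogeneousCore_le 𝒜 q)),
          fun h' => hirr (h'.trans (Ideal.toIdeal_homogeneousCore_le 𝒜 q))⟩) ?_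
        exact Ideal.mem_homogeneousCore_of_homogeneous_of_mem ⟨e, hz⟩ hzq
    · rcases Nat.lt_or_ge i (j + 1) with hlt | hge
      · rw [List.take_append_of_le_length (by omega)]
        exact hht f n hn hf i (by omega)
      · obtain rfl : i = j + 1 := by omega
        rw [List.take_of_length_le (by simp [hlen])]
        have h0 := hht f n hn hf j le_rfl
        rw [List.take_of_length_le (by omega)] at h0
        refine succ_le_height 𝒜 hn hf hI ?_ hz (Ideal.subset_span (by simp)) (by omega) hJh h0 ?_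
        · exact Ideal.span_mono fun a ha => List.mem_append_left _ ha
        · intro p hp hJp x hx hzp
          refine hzT _ (Finset.mem_filter.2 ⟨Finset.mem_image.2 ⟨p, Finset.mem_union_right _
            ((I.finite_minimalPrimes_of_isNoetherianRing A).mem_toFinset.2 hp), ?_⟩, hx ▸ x.isPrime, hJp,
            hx ▸ x.not_irrelevant_le⟩) hzp
          rw [hx]
          exact x.asHomogeneousIdeal.isHomogeneous.toIdeal_homogeneousCore_eq_self

end Groth.Agent.GeomHt22
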